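import Groth.Prelude.Def_KLin
import Groth.Prelude.Def_DCoh2
import Mathlib.AlgebraicGeometry.Morphisms.Proper
import Mathlib.RingTheory.Noetherian.Basic
import Mathlib.Algebra.Homology.DerivedCategory.Ext.Linear
import Groth.Agent.PerfA.QCohD
import Groth.Agent.S7277

/-! `Ext^n(F, G)` of coherent sheaves on a proper scheme over a Noetherian ring is finitely generated. -/

set_option autoImplicit false
universe u
open CategoryTheory CategoryTheory.Limits AlgebraicGeometry
attribute [local instance] HasDerivedCategory.standard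

namespace K723.ExtFin

theorem finite_ext_of_hom {A : Type u} [CommRing A] {X : Scheme.{u}} [X.Over (Spec (CommRingCat.of A))]
    {F G : X.Modules} [HasExt.{u} X.Modules] (n : ℕ)
    (h : Module.Finite A (ShiftedHom ((DerivedCategory.singleFunctor X.Modules 0).obj F)
      ((DerivedCategory.singleFunctor X.Modules 0).obj G) (n : ℤ))) :
    Module.Finite A (Abelian.Ext.{u} F G n) :=
  Module.Finite.equiv (Abelian.Ext.homLinearEquiv (R := A) (X := F) (Y := G) (n := n)).symm

/-- **Finiteness of `Ext`** on a proper scheme. -/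
theorem finite_ext (A : Type u) [CommRing A] [IsNoetherianRing A] {X : Scheme.{u}} [X.Over (Spec (CommRingCat.of A))]
    [IsProper (X ↘ Spec (CommRingCat.of A))] {F G : X.Modules} (hF : Coh.IsCoh F) (hG : Coh.IsCoh G)
    [HasExt.{u} X.Modules] (n : ℕ) : Module.Finite A (Abelian.Ext.{u} F G n) := by
  refine finite_ext_of_hom n ?_
  exact Groth.Agent.S7277.result A X (DCoh.inD X F) (DCoh.inD X G)
    (Groth.Agent.PerfA.QCohD.isCohD_inD F hF) ⟨0, inferInstance⟩
    (Groth.Agent.PerfA.QCohD.isCohD_inD G hG) ⟨0, inferInstance⟩ (n : ℤ)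

/-- Finiteness of `Hom` on a proper scheme. -/
theorem finite_hom (A : Type u) [CommRing A] [IsNoetherianRing A] {X : Scheme.{u}} [X.Over (Spec (CommRingCat.of A))]
    [IsProper (X ↘ Spec (CommRingCat.of A))] {F G : X.Modules} (hF : Coh.IsCoh F) (hG : Coh.IsCoh G)
    [HasExt.{u} X.Modules] : Module.Finite A (F ⟶ G) := by
  have := finite_ext A hF hG 0
  exact Module.Finite.equiv (Abelian.Ext.linearEquiv₀ (R := A) (X := F) (Y := G))

end K723.ExtFin
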