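import Groth.Prelude.Def_ArtFun6
import Groth.Prelude.Def_FGA
import Groth.Agent.Fga.HilbFun
import Groth.Agent.ArtFun.K723.Pointed

/-! The local Hilbert functor of a fibre of the universal family is the functor of pointed maps to the
Hilbert scheme, i.e. the functor `hR` of the local ring of the Hilbert scheme. -/

set_option autoImplicit false
universe u
open CategoryTheory CategoryTheory.Limits AlgebraicGeometry
open ArtFun ArtFun.Art

namespace K723.HilbPt

variable {k : Type u} [Field k] {Y : Scheme.{u}} (y : Y ⟶ Spec (CommRingCat.of k))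

/-- `Spec A` over `Spec k`. -/
noncomputable abbrev T (A : Art k k) : Over (Spec (CommRingCat.of k)) := Over.mk (specOver A)

/-- `Spec k` over `Spec k`. -/
noncomputable abbrev T0 : Over (Spec (CommRingCat.of k)) := Over.mk (𝟙 (Spec (CommRingCat.of k)))

theorem specRes_specOver (A : Art k k) : specRes A ≫ specOver A = 𝟙 (Spec (CommRingCat.of k)) :=
  (specRes_comp (ofBase A)).trans ((Category.id_comp _).symm.trans (comp_specRes_base (𝟙 (specPt k))))

/-- The closed point as a morphism over `Spec k`. -/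
noncomputable def ptA (A : Art k k) : T0 (k := k) ⟶ T A := Over.homMk (specRes A) (specRes_specOver A)

/-- `Spec B → Spec A` over `Spec k`. -/
noncomputable def TMap {A B : Art k k} (g : A ⟶ B) : T B ⟶ T A := Over.homMk (specMap g) (specOver_comp g)

theorem XTmap_TMap {A B : Art k k} (g : A ⟶ B) : PicF.XTmap y (TMap g) = XAmap y g := by
  apply pullback.hom_ext
  · change PicF.XTmap y (TMap g) ≫ pullback.fst y (specOver A) = XAmap y g ≫ pullback.fst y (specOver A)
    rw [XAmap_fst]
    exact (pullback.lift_fst _ _ _).trans (Category.comp_id _)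
  · change PicF.XTmap y (TMap g) ≫ pullback.snd y (specOver A) = XAmap y g ≫ XApr y A
    rw [XAmap_snd]
    exact pullback.lift_snd _ _ _

theorem XTmap_ptA (A : Art k k) : PicF.XTmap y (ptA A) = pullback.fst y (T0 (k := k)).hom ≫ XAincl y A := by
  apply pullback.hom_ext
  · change PicF.XTmap y (ptA A) ≫ pullback.fst y (specOver A) =
      (pullback.fst y (T0 (k := k)).hom ≫ XAincl y A) ≫ pullback.fst y (specOver A)
    rw [Category.assoc, XAincl_fst, Category.comp_id]
    exact (pullback.lift_fst _ _ _).trans (Category.comp_id _)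
  · change PicF.XTmap y (ptA A) ≫ pullback.snd y (specOver A) =
      (pullback.fst y (T0 (k := k)).hom ≫ XAincl y A) ≫ XApr y A
    rw [Category.assoc, XAincl_snd, ← Category.assoc]
    refine (pullback.lift_snd _ _ _).trans (congrArg (· ≫ specRes A) ?_)
    have h1 : pullback.fst y (T0 (k := k)).hom ≫ y = pullback.snd y (T0 (k := k)).hom ≫ (T0 (k := k)).hom :=
      pullback.condition
    rw [h1]
    exact (Category.comp_id _).symm

instance isIso_fst : IsIso (pullback.fst y (T0 (k := k)).hom) :=
  inferInstanceAs (IsIso (pullback.fst y (𝟙 _)))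

theorem comap_injective {Z W : Scheme.{u}} (e : Z ⟶ W) [IsIso e] {I J : W.IdealSheafData}
    (h : I.comap e = J.comap e) : I = J := by
  have h1 := congrArg (fun K => K.comap (inv e)) h
  simpa only [← Scheme.IdealSheafData.comap_comp, IsIso.inv_hom_id, Scheme.IdealSheafData.comap_id] using h1

section rep

variable (I₀ : Y.IdealSheafData) [IsProper y] {H : Over (Spec (CommRingCat.of k))} (Z : FGA.HilbSet y H)
  (hH : FGA.HilbRepresentedBy y H Z) (h : T0 (k := k) ⟶ H)
  (hh : FGA.hilbPull y h Z.1 = I₀.comap (pullback.fst y (T0 (k := k)).hom))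

/-- Pointed maps `Spec A → H`. -/
abbrev Pt (H : Over (Spec (CommRingCat.of k))) (h : T0 (k := k) ⟶ H) (A : Art k k) : Type u :=
  {g : Art.spec A ⟶ H.left // g ≫ H.hom = Art.specMap (Art.ofBase A) ∧ Art.specRes A ≫ g = h.left}

/-- The morphism over `k`. -/
noncomputable def Pt.hom {A : Art k k} (g : Pt H h A) : T A ⟶ H := Over.homMk g.1 g.2.1

theorem Pt.ptA_hom {A : Art k k} (g : Pt H h A) : ptA A ≫ g.hom h = h := by
  ext1
  exact g.2.2

omit [IsProper y] in
include hh in
theorem comap_XAincl {A : Art k k} (g : T A ⟶ H) :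
    (FGA.hilbPull y g Z.1).comap (XAincl y A) = I₀ ↔
      FGA.hilbPull y (ptA A ≫ g) Z.1 = FGA.hilbPull y h Z.1 := by
  rw [Groth.Agent.Fga.HilbFun.hilbPull_comp, hh, Groth.Agent.Fga.HilbFun.hilbPull_eq_comap y (ptA A),
    XTmap_ptA, Scheme.IdealSheafData.comap_comp]
  exact ⟨fun h => by rw [h], fun h => comap_injective _ h⟩

/-- Pointed maps to deformations. -/
noncomputable def toHilb (A : Art k k) (g : Pt H h A) : (localHilb Y y I₀).obj A :=
  ⟨FGA.hilbPull y (g.hom h) Z.1, (Groth.Agent.Fga.HilbFun.hilbPull_mem y (g.hom h) Z.2).2,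
    (comap_XAincl y I₀ Z h hh _).2 (by rw [Pt.ptA_hom])⟩

include hH in
theorem toHilb_bijective (A : Art k k) : Function.Bijective (toHilb y I₀ Z h hh A) := by
  haveI : IsLocallyNoetherian (T A).left := inferInstanceAs (IsLocallyNoetherian (Spec (CommRingCat.of A)))
  haveI : IsLocallyNoetherian (T0 (k := k)).left := inferInstanceAs (IsLocallyNoetherian (Spec (CommRingCat.of k)))
  constructor
  · intro g g' e
    have h1 := (hH.2 (T A) (Groth.Agent.Fga.HilbFun.pullH y (g.hom h) Z)).unique rfl
      (congrArg Subtype.val e).symm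
    exact Subtype.ext (congrArg CommaMorphism.left h1)
  · intro I
    have hp : IsProper (I.1.subschemeι ≫ PicF.XTproj y (T A)) := by
      haveI : IsProper (PicF.XTproj y (T A)) := inferInstanceAs (IsProper (pullback.snd y (specOver A)))
      infer_instance
    obtain ⟨g, hg, -⟩ := hH.2 (T A) ⟨I.1, hp, I.2.1⟩
    have h2 : FGA.hilbPull y (ptA A ≫ g) Z.1 = FGA.hilbPull y h Z.1 := by
      refine (comap_XAincl y I₀ Z h hh g).1 ?_
      rw [hg]
      exact I.2.2
    have h3 := (hH.2 (T0 (k := k)) (Groth.Agent.Fga.HilbFun.pullH y h Z)).unique h2 rfl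
    exact ⟨⟨g.left, Over.w g, congrArg CommaMorphism.left h3⟩, Subtype.ext hg⟩

theorem toHilb_map {A B : Art k k} (f : A ⟶ B) (g : Pt H h A) (g' : Pt H h B) (hg : g'.1 = specMap f ≫ g.1) :
    (localHilb Y y I₀).map f (toHilb y I₀ Z h hh A g) = toHilb y I₀ Z h hh B g' := by
  apply Subtype.ext
  change (FGA.hilbPull y (g.hom h) Z.1).comap (XAmap y f) = FGA.hilbPull y (g'.hom h) Z.1
  have h1 : g'.hom h = TMap f ≫ g.hom h := by
    ext1
    exact hg
  rw [h1, Groth.Agent.Fga.HilbFun.hilbPull_comp, Groth.Agent.Fga.HilbFun.hilbPull_eq_comap y (TMap f), XTmap_TMap]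

end rep

end K723.HilbPt
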