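import Groth.Agent.Deform.K723.HilbPt
import Groth.Agent.Deform.K681.CotDer
import Groth.Agent.ArtFun.K723.Krull
import Groth.Agent.ArtFun.K723.Pres
import Groth.Agent.ArtFun.K723.Transport
import Groth.Agent.S0547
import Groth.Agent.S0548
import Groth.Agent.S2164
import Groth.Agent.S2168
import Groth.Agent.S11454
import Groth.Agent.Ega4A.RegCM

/-! Local rings whose functor of points is a given functor of Artinian rings: tangent space, dimension bounds,
regularity, complete intersection. Application to the Hilbert scheme. -/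

set_option autoImplicit false
universe u v
open CategoryTheory CategoryTheory.Limits AlgebraicGeometry
open ArtFun ArtFun.Art IsLocalRing
open scoped TensorProduct

namespace K723.HilbRing

section general

variable {k : Type u} [Field k] {F : Art k k ⥤ Type v} {R : Type u} [CommRing R] [IsLocalRing R] [Algebra k R]
  (res : R →ₐ[k] k) (e : ∀ A, HomSet R res A ≃ F.obj A)
  (he : ∀ (A B : Art k k) (f : A ⟶ B) (x : HomSet R res A), e B (HomSet.map f x) = F.map f (e A x))

include he in
/-- The embedding dimension is the dimension of the tangent space. -/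
theorem finrank_cot [TangentStr F] :
    Module.finrank (ResidueField R) (CotangentSpace R) = Module.finrank k (TangentSpace F) :=
  K681.CotDer.finrank_eq (V := TangentSpace F) res (fun x => e (dual k k) x) (e (dual k k)).bijective
    (fun c x => (he _ _ (scale c) x).trans (TangentStr.smul_eq (F := F) c (e (dual k k) x)).symm)
    (fun z => by
      have h1 := he _ _ pr₁ z
      have h2 := he _ _ pr₂ z
      have h3 := TangentStr.add_eq (F := F) (e (dual2 k k) z)
      rw [← h1, ← h2, ← he] at h3
      exact h3.symm)

variable [IsNoetherianRing R]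

include he in
/-- Dimension bounds, regularity and complete intersection property from an obstruction theory. -/
theorem bounds [TangentStr F] {W : Type u} [AddCommGroup W] [Module k W] [Module.Finite k W] (T : ObsTheory F W) :
    ringKrullDim R ≤ (Module.finrank k (TangentSpace F) : WithBot ℕ∞) ∧
      (Module.finrank k (TangentSpace F) : WithBot ℕ∞) ≤ ringKrullDim R + (Module.finrank k W : WithBot ℕ∞) ∧
      (Module.finrank k W = 0 → IsRegularLocalRing R) ∧
      (ringKrullDim R + (Module.finrank k W : WithBot ℕ∞) = (Module.finrank k (TangentSpace F) : WithBot ℕ∞) →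
        Pi1.IsCompleteIntersection R) := by
  have hres : Function.Surjective res := fun c => ⟨algebraMap k R c, res.commutes c⟩
  let S := K723.Completion.hat R res hres
  let e' : ∀ A, HomSet S.carrier S.res A ≃ F.obj A := fun A => (K723.Completion.equiv hres A).trans (e A)
  have he' : ∀ (A B : Art k k) (f : A ⟶ B) (x : HomSet S.carrier S.res A),
      e' B (HomSet.map f x) = F.map f (e' A x) := by
    intro A B f x
    change e B (K723.Completion.equiv hres B (HomSet.map f x)) = _
    rw [K723.Completion.equiv_map, he]
    rfl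
  obtain ⟨T'⟩ := K723.Transport.hasObsTheory_of_equiv (G := hR S.carrier S.res) e' he' T
  obtain ⟨Φ, hΦ, hker⟩ := K723.Pres.exists_presentation S
  obtain ⟨h1, h2, h3, h4⟩ := K723.Krull.bounds Φ hΦ hker S.res T'
  have hdim : ringKrullDim S.carrier = ringKrullDim R := Groth.Agent.S0547.result R
  rw [finrank_cot S.res e' he', hdim] at h1 h2 h4
  refine ⟨h1, h2, fun h => (Groth.Agent.S0548.result R).2 (h3 h), fun h => ?_⟩
  obtain ⟨P, _, _, π, s, hπ, hs, hP⟩ := h4 h
  refine (Groth.Agent.S2164.ci_cpl_iff R).1 ?_
  haveI : LocCoh.IsCohenMacaulayLocalRing P :=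
    Groth.Agent.Ega4A.RegCM.isCohenMacaulayLocalRing_of_isRegularLocalRing P
  have hof : Ideal.ofList s.toList = RingHom.ker π := by
    rw [← hs, Ideal.ofList]
    congr 1
    ext x
    simp
  refine Groth.Agent.S2168.isCompleteIntersection_of_surjective (A := S.carrier) π hπ ⟨s.toList, hof, ?_⟩
  refine Groth.Agent.S11454.isRegular_of_ringKrullDim_le _ (fun r hr => ?_) ?_
  · have h5 : r ∈ RingHom.ker π := hs ▸ Ideal.subset_span (by simpa using hr)
    exact IsLocalRing.le_maximalIdeal (RingHom.ker_ne_top π) h5
  · rw [hof, ringKrullDim_eq_of_ringEquiv (RingHom.quotientKerEquivOfSurjective hπ), hdim, hP, Finset.length_toList]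

include he in
/-- A smooth functor has a regular local ring. -/
theorem regular_of_smooth [TangentStr F] (hF : IsSmoothFunctor F) :
    IsRegularLocalRing R ∧ ringKrullDim R = (Module.finrank k (TangentSpace F) : WithBot ℕ∞) := by
  let T : ObsTheory F PUnit.{u + 1} :=
    { obs := fun _ _ _ => 0
      obs_eq_zero_iff := fun p hp u => ⟨fun _ => hF p hp.1 u, fun _ => rfl⟩
      obs_quot := fun _ _ _ _ _ _ _ => by rw [map_zero] }
  obtain ⟨h1, h2, h3, -⟩ := bounds res e he T
  have h0 : Module.finrank k PUnit.{u + 1} = 0 := Module.finrank_zero_of_subsingleton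
  refine ⟨h3 h0, le_antisymm h1 ?_⟩
  rw [h0] at h2
  simpa using h2

end general

section hilb

open K723.HilbPt

variable {k : Type u} [Field k] {Y : Scheme.{u}} (y : Y ⟶ Spec (CommRingCat.of k))
  (I₀ : Y.IdealSheafData) [IsProper y] {H : Over (Spec (CommRingCat.of k))} (Z : FGA.HilbSet y H)
  (hH : FGA.HilbRepresentedBy y H Z) (h : T0 (k := k) ⟶ H)
  (hh : FGA.hilbPull y h Z.1 = I₀.comap (pullback.fst y (T0 (k := k)).hom))

include hH hh in
/-- The local Hilbert functor is the functor of points of the local ring of the Hilbert scheme. -/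
theorem exists_iso : ∃ (_ : Algebra k (H.left.presheaf.stalk (h.left.base (IsLocalRing.closedPoint k))))
    (res : H.left.presheaf.stalk (h.left.base (IsLocalRing.closedPoint k)) →ₐ[k] k)
    (e : ∀ A, HomSet _ res A ≃ (localHilb Y y I₀).obj A),
    ∀ (A B : Art k k) (f : A ⟶ B) (x : HomSet _ res A), e B (HomSet.map f x) = (localHilb Y y I₀).map f (e A x) := by
  have hx₀ : h.left ≫ H.hom = 𝟙 (Spec (CommRingCat.of k)) := Over.w h
  obtain ⟨ρ, hρ⟩ := K723.Pointed.exists_factor h.left (h.left.base (IsLocalRing.closedPoint k)) rfl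
  obtain ⟨κ, hκ⟩ : ∃ κ : CommRingCat.of k ⟶ H.left.presheaf.stalk (h.left.base (IsLocalRing.closedPoint k)),
      Spec.map κ = H.left.fromSpecStalk _ ≫ H.hom := ⟨Spec.preimage _, Spec.map_preimage _⟩
  letI := K723.Pointed.alg H.left _ κ
  refine ⟨K723.Pointed.alg H.left _ κ, K723.Pointed.res H.left H.hom h.left hx₀ _ ρ hρ κ hκ,
    fun A => (Equiv.ofBijective _ (K723.Pointed.toMap_bijective H.left H.hom h.left hx₀ _ ρ hρ κ hκ A rfl)).trans
      (Equiv.ofBijective _ (toHilb_bijective y I₀ Z hH h hh A)), ?_⟩
  intro A B f x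
  refine (toHilb_map y I₀ Z h hh f _ _ ?_).symm
  change Spec.map _ ≫ _ = Spec.map _ ≫ (Spec.map _ ≫ _)
  rw [← Category.assoc, ← Spec.map_comp]
  rfl

include hH hh in
theorem finrank_cot_hilb [TangentStr (localHilb Y y I₀)] :
    Module.finrank (ResidueField (H.left.presheaf.stalk (h.left.base (IsLocalRing.closedPoint k))))
        (CotangentSpace (H.left.presheaf.stalk (h.left.base (IsLocalRing.closedPoint k)))) =
      Module.finrank k (TangentSpace (localHilb Y y I₀)) := by
  obtain ⟨i1, res, e, he⟩ := exists_iso y I₀ Z hH h hh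
  exact finrank_cot res e he

include hH hh in
theorem bounds_hilb [TangentStr (localHilb Y y I₀)] {W : Type u} [AddCommGroup W] [Module k W] [Module.Finite k W]
    (T : ObsTheory (localHilb Y y I₀) W) :
    ringKrullDim (H.left.presheaf.stalk (h.left.base (IsLocalRing.closedPoint k))) ≤
        (Module.finrank k (TangentSpace (localHilb Y y I₀)) : WithBot ℕ∞) ∧
      (Module.finrank k (TangentSpace (localHilb Y y I₀)) : WithBot ℕ∞) ≤
        ringKrullDim (H.left.presheaf.stalk (h.left.base (IsLocalRing.closedPoint k))) +
          (Module.finrank k W : WithBot ℕ∞) ∧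
      (Module.finrank k W = 0 →
        IsRegularLocalRing (H.left.presheaf.stalk (h.left.base (IsLocalRing.closedPoint k)))) ∧
      (ringKrullDim (H.left.presheaf.stalk (h.left.base (IsLocalRing.closedPoint k))) +
          (Module.finrank k W : WithBot ℕ∞) = (Module.finrank k (TangentSpace (localHilb Y y I₀)) : WithBot ℕ∞) →
        Pi1.IsCompleteIntersection (H.left.presheaf.stalk (h.left.base (IsLocalRing.closedPoint k)))) := by
  obtain ⟨i1, res, e, he⟩ := exists_iso y I₀ Z hH h hh
  haveI := hH.1
  exact bounds res e he T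

include hH hh in
theorem regular_hilb [TangentStr (localHilb Y y I₀)] (hs : IsSmoothFunctor (localHilb Y y I₀)) :
    IsRegularLocalRing (H.left.presheaf.stalk (h.left.base (IsLocalRing.closedPoint k))) ∧
      ringKrullDim (H.left.presheaf.stalk (h.left.base (IsLocalRing.closedPoint k))) =
        (Module.finrank k (TangentSpace (localHilb Y y I₀)) : WithBot ℕ∞) := by
  obtain ⟨i1, res, e, he⟩ := exists_iso y I₀ Z hH h hh
  haveI := hH.1
  exact regular_of_smooth res e he hs

end hilb

end K723.HilbRing
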