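import Groth.Agent.S0002
import Groth.Agent.S9524
import Groth.Agent.VarietyB.DegCartier
import Groth.Agent.FormalB.PullCoh
import Groth.Agent.Ega3B.ProjProper
import Groth.Agent.Sga2.PnHomAdj
import Groth.Prelude.Def_Omega2

/-! Finiteness of the cohomology of the normal sheaf. -/

set_option autoImplicit false
universe u
open CategoryTheory CategoryTheory.Limits AlgebraicGeometry

namespace K723.NormalFin

/-- The conormal sheaf of a morphism to a locally Noetherian scheme is coherent. -/
theorem isCoh_conormal {X Y : Scheme.{u}} (i : X ⟶ Y) [IsLocallyNoetherian Y] : Coh.IsCoh (Omega.conormal i) :=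
  Groth.Agent.FormalB.PullCoh.isCoh_pullback i (Groth.Agent.VarietyB.DegCartier.isCoh_idealMod i.ker)

theorem isCoh_normal {X Y : Scheme.{u}} (i : X ⟶ Y) [IsLocallyNoetherian Y] [IsLocallyNoetherian X]
    [DCoh.HasSheafHom (Omega.conormal i)] :
    Coh.IsCoh ((DCoh.sheafHom (Omega.conormal i)).obj (Coh.structureModule X)) :=
  Groth.Agent.S9524.result X _ _ (isCoh_conormal i) (Groth.Agent.CurvesB.UnitCoh.isCoh_structureModule X)

/-- Finiteness of the cohomology of the normal sheaf of a closed subscheme proper over a field. -/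
theorem finite_HH_normal (k : Type u) [Field k] {X Y : Scheme.{u}} (i : X ⟶ Y) [IsLocallyNoetherian Y]
    [X.Over (Spec (CommRingCat.of k))] [IsProper (X ↘ Spec (CommRingCat.of k))]
    [DCoh.HasSheafHom (Omega.conormal i)] (n : ℕ) :
    Module.Finite k (Coh.HH X ((DCoh.sheafHom (Omega.conormal i)).obj (Coh.structureModule X)) n) := by
  haveI : IsLocallyNoetherian X := LocallyOfFiniteType.isLocallyNoetherian (X ↘ Spec (CommRingCat.of k))
  exact Groth.Agent.S0002.result k X _ (isCoh_normal i) n

/-- A scheme embedded in a projective space is proper. -/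
theorem isProper_of_proj {k : Type u} [Field k] {X : Scheme.{u}} (x : X ⟶ Spec (CommRingCat.of k))
    (hproj : ∃ (n : ℕ) (c : X ⟶ CohB1.ProjSpaceOver n (Spec (CommRingCat.of k))),
      IsClosedImmersion c ∧ c ≫ CohB1.ProjSpaceOver.toBase n (Spec (CommRingCat.of k)) = x) : IsProper x := by
  obtain ⟨n, c, hc, rfl⟩ := hproj
  haveI := Groth.Agent.Ega3B.ProjProper.isProper_toBase n (Spec (CommRingCat.of k))
  infer_instance

end K723.NormalFin
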