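import Groth.Prelude.Def_DCoh4
import Groth.Prelude.Def_Omega2
import Groth.Agent.Dcoh.MonPull292
import Groth.Agent.Dcoh.MonInst
import Groth.Agent.CurvesC.CurveNum
import Groth.Agent.Sga2.PnHomAdj
import Groth.Agent.PerfB.FiberUnit
import Groth.Agent.CurvesA.HHMap

/-! `e_* Hom(e^* C, N) = Hom(C, e_* N)`, and transport of the normal sheaf along an isomorphism of closed
subschemes. -/

set_option autoImplicit false
universe u
open CategoryTheory CategoryTheory.Limits AlgebraicGeometry MonoidalCategory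

namespace K723.NormalTrans

open scoped Groth.Agent.Dcoh.MonCat

variable {X Z : Scheme.{u}} (e : X ⟶ Z) (C : Z.Modules)

/-- `e^*(C ⊗ N) = e^* C ⊗ e^* N`, naturally in `N`. -/
noncomputable def tensIso : (DCoh.tensorBi (X := Z)).obj C ⋙ Scheme.Modules.pullback e ≅
    Scheme.Modules.pullback e ⋙ (DCoh.tensorBi (X := X)).obj ((Scheme.Modules.pullback e).obj C) :=
  letI := Groth.Agent.Dcoh.MonPull.monPull e
  NatIso.ofComponents (fun N => (Functor.Monoidal.μIso (Scheme.Modules.pullback e) C N).symm) (by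
    intro N N' f
    have h := Functor.LaxMonoidal.μ_natural_right (F := Scheme.Modules.pullback e) C f
    change (Scheme.Modules.pullback e).map (C ◁ f) ≫ (Functor.Monoidal.μIso (Scheme.Modules.pullback e) C N').inv =
      (Functor.Monoidal.μIso (Scheme.Modules.pullback e) C N).inv ≫ (Scheme.Modules.pullback e).obj C ◁ (Scheme.Modules.pullback e).map f
    rw [Iso.comp_inv_eq, Category.assoc, Iso.eq_inv_comp]
    exact h.symm)

/-- `e_* Hom(e^* C, N) = Hom(C, e_* N)`. -/
noncomputable def pushHom [DCoh.HasSheafHom C] [DCoh.HasSheafHom ((Scheme.Modules.pullback e).obj C)] :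
    DCoh.sheafHom ((Scheme.Modules.pullback e).obj C) ⋙ Scheme.Modules.pushforward e ≅
      Scheme.Modules.pushforward e ⋙ DCoh.sheafHom C :=
  Adjunction.rightAdjointUniq
    ((Scheme.Modules.pullbackPushforwardAdjunction e).comp (DCoh.sheafHomAdj ((Scheme.Modules.pullback e).obj C)))
    (((DCoh.sheafHomAdj C).comp (Scheme.Modules.pullbackPushforwardAdjunction e)).ofNatIsoLeft (tensIso e C))

/-- `Hom(C, -)` depends on `C` only up to isomorphism. -/
noncomputable def homCongr {C C' : Z.Modules} (u : C ≅ C') [DCoh.HasSheafHom C] [DCoh.HasSheafHom C'] :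
    DCoh.sheafHom C ≅ DCoh.sheafHom C' :=
  Adjunction.rightAdjointUniq (DCoh.sheafHomAdj C)
    ((DCoh.sheafHomAdj C').ofNatIsoLeft ((DCoh.tensorBi (X := Z)).mapIso u.symm))

/-- `e_* O_X = O_Z` for an isomorphism `e`. -/
noncomputable def pushUnit [IsIso e] : (Scheme.Modules.pushforward e).obj (Coh.structureModule X) ≅
    Coh.structureModule Z :=
  have : IsIso (Groth.Agent.PerfB.UnitMono.unitMap e) := by
    rw [Scheme.Modules.Hom.isIso_iff_isIso_app]
    intro U
    exact Groth.Agent.PerfB.FiberUnit.isIso_unitMap_app e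
      ((ConcreteCategory.isIso_iff_bijective (e.app U)).mp inferInstance)
  (asIso (Groth.Agent.PerfB.UnitMono.unitMap e)).symm

variable {Y : Scheme.{u}}

/-- The conormal sheaf of `e ≫ ι` for an isomorphism `e`. -/
noncomputable def conormalIso [IsIso e] (ι : Z ⟶ Y) : Omega.conormal (e ≫ ι) ≅
    (Scheme.Modules.pullback e).obj (Omega.conormal ι) :=
  ((Scheme.Modules.pullbackComp e ι).app _).symm ≪≫ (Scheme.Modules.pullback e).mapIso
    ((Scheme.Modules.pullback ι).mapIso (eqToIso (by rw [Scheme.Hom.ker_comp_of_isIso])))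

/-- The normal sheaf of `e ≫ ι` pushed forward along the isomorphism `e`. -/
noncomputable def normalIso [IsIso e] (ι : Z ⟶ Y) [DCoh.HasSheafHom (Omega.conormal (e ≫ ι))]
    [DCoh.HasSheafHom (Omega.conormal ι)] :
    (Scheme.Modules.pushforward e).obj ((DCoh.sheafHom (Omega.conormal (e ≫ ι))).obj (Coh.structureModule X)) ≅
      (DCoh.sheafHom (Omega.conormal ι)).obj (Coh.structureModule Z) :=
  haveI := Groth.Agent.Sga2.PnHomAdj.hasSheafHom ((Scheme.Modules.pullback e).obj (Omega.conormal ι))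
  (Scheme.Modules.pushforward e).mapIso ((homCongr (conormalIso e ι)).app _) ≪≫
    (pushHom e (Omega.conormal ι)).app (Coh.structureModule X) ≪≫
    (DCoh.sheafHom (Omega.conormal ι)).mapIso (pushUnit e)

/-- The cohomology of the normal sheaf only depends on the closed subscheme. -/
theorem nonempty_HH (k : Type u) [CommRing k] [X.Over (Spec (CommRingCat.of k))] [Z.Over (Spec (CommRingCat.of k))]
    [IsIso e] (he : e ≫ (Z ↘ Spec (CommRingCat.of k)) = X ↘ Spec (CommRingCat.of k)) (ι : Z ⟶ Y) (i : X ⟶ Y)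
    (hi : e ≫ ι = i) [DCoh.HasSheafHom (Omega.conormal i)] [DCoh.HasSheafHom (Omega.conormal ι)] (n : ℕ) :
    Nonempty (Coh.HH X ((DCoh.sheafHom (Omega.conormal i)).obj (Coh.structureModule X)) n ≃ₗ[k]
      Coh.HH Z ((DCoh.sheafHom (Omega.conormal ι)).obj (Coh.structureModule Z)) n) := by
  subst hi
  have e1 := Groth.Agent.CurvesC.CurveNum.hhPushₗ k e he
    ((DCoh.sheafHom (Omega.conormal (e ≫ ι))).obj (Coh.structureModule X)) n
  have e2 := Groth.Agent.CurvesA.HHMap.equivOver k (normalIso e ι) n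
  exact ⟨e1.trans e2⟩

end K723.NormalTrans
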