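import Groth.Agent.Deform.K723.HilbRing
import Groth.Agent.Deform.K723.NormalTrans
import Groth.Agent.Deform.K680.LHFib
import Groth.Agent.ArtFun.K723.SmallExt
import Groth.Agent.S12274
import Groth.Agent.S12726

/-! The normal sheaf of a closed immersion `i : X → Y`, the local Hilbert functor of `i.ker`, and the Hilbert
scheme of `Y` at the point of `X`. -/

set_option autoImplicit false
universe u v
open CategoryTheory CategoryTheory.Limits AlgebraicGeometry
open ArtFun ArtFun.Art IsLocalRing

namespace K723.NormalHilb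

variable {k : Type u} [Field k]

theorem exists_tangentStr {Y : Scheme.{u}} (y : Y ⟶ Spec (CommRingCat.of k)) (I₀ : Y.IdealSheafData) :
    Nonempty (TangentStr (localHilb Y y I₀)) :=
  Groth.Agent.S12726.result (localHilb Y y I₀) (K680.LHFib.h0 y I₀)
    (fun _ _ _ _ h' => K680.LHFib.isLeftExact y I₀ _ _ _ _ h')

section closed

variable {X Y : Scheme.{u}} [X.Over (Spec (CommRingCat.of k))] (i : X ⟶ Y) [IsClosedImmersion i]
  (y : Y ⟶ Spec (CommRingCat.of k)) (hi : i ≫ y = X ↘ Spec (CommRingCat.of k))
  [DCoh.HasSheafHom (Omega.conormal i)]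

include hi in
/-- The cohomology of the normal sheaf of `i` and of its image. -/
theorem nonempty_HH_ker (n : ℕ) : letI : i.ker.subscheme.Over (Spec (CommRingCat.of k)) := ⟨i.ker.subschemeι ≫ y⟩
    haveI := Groth.Agent.Sga2.PnHomAdj.hasSheafHom (Omega.conormal i.ker.subschemeι)
    Nonempty (Coh.HH X ((DCoh.sheafHom (Omega.conormal i)).obj (Coh.structureModule X)) n ≃ₗ[k]
      Coh.HH i.ker.subscheme ((DCoh.sheafHom (Omega.conormal i.ker.subschemeι)).obj
        (Coh.structureModule i.ker.subscheme)) n) := by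
  letI : i.ker.subscheme.Over (Spec (CommRingCat.of k)) := ⟨i.ker.subschemeι ≫ y⟩
  haveI := Groth.Agent.Sga2.PnHomAdj.hasSheafHom (Omega.conormal i.ker.subschemeι)
  haveI : IsIso i.toImage := inferInstance
  have h1 : i.toImage ≫ i.ker.subschemeι = i := i.toImage_imageι
  refine K723.NormalTrans.nonempty_HH (X := X) (Z := i.ker.subscheme) i.toImage k ?_ i.ker.subschemeι i h1 n
  change i.toImage ≫ i.ker.subschemeι ≫ y = _
  rw [← Category.assoc, h1, hi]

include hi in
theorem nonempty_tangent [TangentStr (localHilb Y y i.ker)] :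
    Nonempty (TangentSpace (localHilb Y y i.ker) ≃ₗ[k]
      Coh.HH X ((DCoh.sheafHom (Omega.conormal i)).obj (Coh.structureModule X)) 0) := by
  letI : i.ker.subscheme.Over (Spec (CommRingCat.of k)) := ⟨i.ker.subschemeι ≫ y⟩
  haveI := Groth.Agent.Sga2.PnHomAdj.hasSheafHom (Omega.conormal i.ker.subschemeι)
  obtain ⟨e1⟩ := Groth.Agent.S12274.aux Y y i.ker rfl
  obtain ⟨e2⟩ := nonempty_HH_ker i y hi 0
  exact ⟨e1.trans e2.symm⟩

end closed

/-- Surjectivity along semismall extensions is smoothness. -/
theorem isSmoothFunctor_of_semismall {F : Art k k ⥤ Type v}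
    (h : ∀ {C' C : Art k k} (p : C' ⟶ C), IsSemismallExt p → Function.Surjective (F.map p)) :
    IsSmoothFunctor F := by
  intro B A p hp
  refine K723.SmallExt.surjective_induction (P := fun A B (p : B ⟶ A) =>
    Function.Surjective (F.map p)) ?_ ?_ ?_ p hp
  · intro A B e he
    exact (ConcreteCategory.bijective_of_isIso (F.map e)).2
  · intro A B p hp
    exact h p hp.isSemismallExt
  · intro A B C p q hp hq
    rw [Functor.map_comp]
    exact hq.comp hp

section hilb

open K723.HilbPt K723.HilbRing

variable {X Y : Scheme.{u}} [X.Over (Spec (CommRingCat.of k))] (i : X ⟶ Y) [IsClosedImmersion i]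
  (y : Y ⟶ Spec (CommRingCat.of k)) (hi : i ≫ y = X ↘ Spec (CommRingCat.of k))
  [DCoh.HasSheafHom (Omega.conormal i)] [IsProper y]
  {H : Over (Spec (CommRingCat.of k))} (Z : FGA.HilbSet y H) (hH : FGA.HilbRepresentedBy y H Z)
  (h : T0 (k := k) ⟶ H)
  (hh : FGA.hilbPull y h Z.1 = i.ker.comap (pullback.fst y (T0 (k := k)).hom))

include hi hH hh

/-- The tangent space of the Hilbert scheme at `[X]` has dimension `h⁰(N)`. -/
theorem finrank_cot_eq :
    Module.finrank (ResidueField (H.left.presheaf.stalk (h.left.base (IsLocalRing.closedPoint k))))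
        (CotangentSpace (H.left.presheaf.stalk (h.left.base (IsLocalRing.closedPoint k)))) =
      Module.finrank k (Coh.HH X ((DCoh.sheafHom (Omega.conormal i)).obj (Coh.structureModule X)) 0) := by
  obtain ⟨TS⟩ := exists_tangentStr y i.ker
  obtain ⟨e⟩ := nonempty_tangent i y hi
  rw [← e.finrank_eq]
  exact finrank_cot_hilb y i.ker Z hH h hh

/-- If the local Hilbert functor is smooth, the Hilbert scheme is regular at `[X]` of dimension `h⁰(N)`. -/
theorem regular_eq (hs : IsSmoothFunctor (localHilb Y y i.ker)) :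
    IsRegularLocalRing (H.left.presheaf.stalk (h.left.base (IsLocalRing.closedPoint k))) ∧
      ringKrullDim (H.left.presheaf.stalk (h.left.base (IsLocalRing.closedPoint k))) =
        (Module.finrank k (Coh.HH X ((DCoh.sheafHom (Omega.conormal i)).obj (Coh.structureModule X)) 0) :
          WithBot ℕ∞) := by
  obtain ⟨TS⟩ := exists_tangentStr y i.ker
  obtain ⟨e⟩ := nonempty_tangent i y hi
  rw [← e.finrank_eq]
  exact regular_hilb y i.ker Z hH h hh hs

/-- Dimension bounds from an obstruction theory. -/
theorem bounds_eq {W : Type u} [AddCommGroup W] [Module k W] [Module.Finite k W]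
    (T : ObsTheory (localHilb Y y i.ker) W) :
    ringKrullDim (H.left.presheaf.stalk (h.left.base (IsLocalRing.closedPoint k))) ≤
        (Module.finrank k (Coh.HH X ((DCoh.sheafHom (Omega.conormal i)).obj (Coh.structureModule X)) 0) :
          WithBot ℕ∞) ∧
      (Module.finrank k (Coh.HH X ((DCoh.sheafHom (Omega.conormal i)).obj (Coh.structureModule X)) 0) :
          WithBot ℕ∞) ≤
        ringKrullDim (H.left.presheaf.stalk (h.left.base (IsLocalRing.closedPoint k))) +
          (Module.finrank k W : WithBot ℕ∞) ∧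
      (ringKrullDim (H.left.presheaf.stalk (h.left.base (IsLocalRing.closedPoint k))) +
          (Module.finrank k W : WithBot ℕ∞) =
        (Module.finrank k (Coh.HH X ((DCoh.sheafHom (Omega.conormal i)).obj (Coh.structureModule X)) 0) :
          WithBot ℕ∞) →
        Pi1.IsCompleteIntersection (H.left.presheaf.stalk (h.left.base (IsLocalRing.closedPoint k)))) := by
  obtain ⟨TS⟩ := exists_tangentStr y i.ker
  obtain ⟨e⟩ := nonempty_tangent i y hi
  rw [← e.finrank_eq]
  obtain ⟨h1, h2, -, h4⟩ := bounds_hilb y i.ker Z hH h hh T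
  exact ⟨h1, h2, h4⟩

end hilb

end K723.NormalHilb
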