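import Groth.Agent.Deform.K723.NormalHilb
import Groth.Agent.Deform.K723.NormalFin
import Groth.Agent.Deform.K681.HullDim
import Groth.Agent.DefT.K693.LHObs
import Groth.Agent.Fano.K715.LciLift

/-! The obstruction theory of a regular closed immersion with values in `H¹(N)`; dimension of the prorepresenting
ring and of the Hilbert scheme. -/

set_option autoImplicit false
universe u v
open CategoryTheory CategoryTheory.Limits AlgebraicGeometry
open ArtFun ArtFun.Art IsLocalRing

open K723.NormalHilb

namespace K723.NormalObs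

variable {k : Type u} [Field k]

section closed

variable {X Y : Scheme.{u}} [X.Over (Spec (CommRingCat.of k))] (i : X ⟶ Y) [IsClosedImmersion i]
  (y : Y ⟶ Spec (CommRingCat.of k)) (hi : i ≫ y = X ↘ Spec (CommRingCat.of k))
  [DCoh.HasSheafHom (Omega.conormal i)]

include hi in
/-- If local lifts exist, `H¹(N)` is an obstruction space of the local Hilbert functor. -/
theorem hasObsTheory_of_locLift (hLL : ∀ {C' C : Art k k} (p : C' ⟶ C) (_ : IsSemismallExt p)
    (I : (localHilb Y y i.ker).obj C), K693.LHSit.LocLift p I) :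
    HasObsTheory (localHilb Y y i.ker) (Coh.HH X ((DCoh.sheafHom (Omega.conormal i)).obj (Coh.structureModule X)) 1) := by
  letI : i.ker.subscheme.Over (Spec (CommRingCat.of k)) := ⟨i.ker.subschemeι ≫ y⟩
  haveI := Groth.Agent.Sga2.PnHomAdj.hasSheafHom (Omega.conormal i.ker.subschemeι)
  obtain ⟨T⟩ := K693.LHSit.hasObsTheory (X := Y) (Y := i.ker.subscheme) (i := i.ker.subschemeι) (x := y) (I₀ := i.ker) i.ker.ker_subschemeι rfl hLL
  obtain ⟨e2⟩ := nonempty_HH_ker i y hi 1
  let e1 := Groth.Agent.Fga.EulerIso.HHequiv k ((Groth.Agent.Sga2.PnHomAdj.sheafHomIso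
    (Omega.conormal i.ker.subschemeι)).app (Coh.structureModule i.ker.subscheme)) 1
  exact K723.Transport.hasObsTheory_of_linearEquiv (e1.symm.trans e2.symm) T

/-- Local lifts of a regular closed immersion. -/
theorem locLift_of_regular (hreg : Mor2.IsRegularClosedImmersion i) {C' C : Art k k} (p : C' ⟶ C)
    (hp : IsSemismallExt p) (I : (localHilb Y y i.ker).obj C) : K693.LHSit.LocLift p I := by
  intro z
  refine K715.LciLift.exists_isLocalLift Y y i.ker hp I z ?_
  obtain ⟨w, hw⟩ : ∃ w, i.toImage w = z := (inferInstance : Surjective i.toImage).surj z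
  have h1 : i.ker.subschemeι z = i w := by
    rw [← hw, ← Scheme.Hom.comp_apply]
    exact congrArg (fun f : X ⟶ Y => f w) i.toImage_imageι
  rw [h1]
  exact ((Groth.Agent.Divis.RegImm.isRegularClosedImmersion_iff _).1 hreg).2 w

include hi in
/-- `H¹(N)` is an obstruction space of the local Hilbert functor of a regular closed immersion. -/
theorem hasObsTheory_normal (hreg : Mor2.IsRegularClosedImmersion i) :
    HasObsTheory (localHilb Y y i.ker) (Coh.HH X ((DCoh.sheafHom (Omega.conormal i)).obj (Coh.structureModule X)) 1) :=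
  hasObsTheory_of_locLift i y hi fun p hp I => locLift_of_regular i y hreg p hp I

/-- If `H¹(N) = 0` and local lifts exist, the local Hilbert functor is smooth. -/
theorem isSmoothFunctor_of_obs {F : Art k k ⥤ Type v} {W : Type u} [AddCommGroup W] [Module k W] [Subsingleton W]
    (T : ObsTheory F W) : IsSmoothFunctor F :=
  isSmoothFunctor_of_semismall fun p hp u => (T.obs_eq_zero_iff p hp u).1 (Subsingleton.elim _ _)

end closed

/-- A prorepresenting family is a hull. -/
def hullOfProRep {F : Art k k ⥤ Type v} (R : ProRep F) : Hull F where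
  ring := R.ring
  family := R.family
  miniversal := ⟨fun {B A} μ hμ φ z hz => by
    obtain ⟨ψ, hψ⟩ := (R.universal B).2 z
    refine ⟨ψ, (R.universal A).1 ?_, hψ⟩
    rw [R.family.natural, hψ, hz], R.universal _⟩

end K723.NormalObs
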